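import Cfsg.Agent.RealChar.Indicator
import Cfsg.Agent.CharInd.Clifford
import Cfsg.Agent.CharInd.Induced
import Cfsg.Agent.Char.Linear

/-!
# Induction from inertia groups, and linear characters trivial on a subgroup
-/

set_option autoImplicit false
set_option linter.style.haveILetI false

open scoped ComplexConjugate

namespace Cfsg.Agent.RealChar

open Cfsg.Agent.Char

universe u

variable {G : Type u} [Group G]

/-- A character averaging to zero over a subgroup averages to zero over the group. -/
theorem sum_eq_zero_of_sum_subgroup [Fintype G] (M : Subgroup G) [Fintype M] {f : G → ℂ}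
    (hf : IsCharacter G f) (h0 : ∑ x : M, f x = 0) : ∑ g : G, f g = 0 := by
  classical
  let triv : IrrCharacter G := ⟨fun _ => 1, isIrrCharacter_const_one⟩
  let trivM : IrrCharacter M := ⟨fun _ => 1, isIrrCharacter_const_one⟩
  obtain ⟨m, hm, hm'⟩ := isCharacter_exists_coeff hf
  choose k hk using fun ξ : IrrCharacter G =>
    isCharacter_classInner_nat (isCharacter_restrict (isCharacter_of_irr ξ.2) M) trivM
  have hsum : ∑ x : M, f x = ((Nat.card M * ∑ ξ : IrrCharacter G, m ξ * k ξ : ℕ) : ℂ) := by
    rw [Finset.mul_sum, Nat.cast_sum]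
    conv_lhs => rw [hm]
    simp only [Finset.sum_apply, nsmul_eq_mul, Pi.mul_apply, Pi.natCast_apply]
    rw [Finset.sum_comm]
    refine Finset.sum_congr rfl fun ξ _ => ?_
    rw [← Finset.mul_sum]
    have := sum_mul_conj_eq_card_mul_classInner (fun x : M => (ξ : G → ℂ) x) (trivM : M → ℂ)
    simp only [trivM, map_one, mul_one] at this
    rw [this, hk ξ]
    push_cast
    ring
  rw [hsum, Nat.cast_eq_zero, Nat.mul_eq_zero, Finset.sum_eq_zero_iff] at h0
  have h1 := (h0.resolve_left Nat.card_pos.ne') triv (Finset.mem_univ _)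
  have hk1 : k triv = 1 := by
    have h := hk triv
    rw [show (fun x : M => (triv : G → ℂ) x) = (trivM : M → ℂ) from rfl,
      classInner_irr_self trivM.2] at h
    exact_mod_cast h.symm
  rw [hk1, mul_one] at h1
  have := sum_mul_conj_eq_card_mul_classInner f (triv : G → ℂ)
  simp only [hm' triv, h1, Nat.cast_zero, mul_zero] at this
  simpa [triv] using this

/-- Mackey: induction from the inertia group is an isometry on characters lying over `φ`. -/
theorem classInner_indFun_inertia [Fintype G] (N : Subgroup G) [hN : N.Normal] [Fintype N]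
    (I : Subgroup G) [Fintype I] (hNI : N ≤ I) (φ : IrrCharacter N)
    (hI : ∀ g : G, (∀ n n' : N, (n' : G) = g * n * g⁻¹ → (φ : N → ℂ) n' = (φ : N → ℂ) n) → g ∈ I)
    {θ θ' : I → ℂ} (hθ : IsCharacter I θ) (hθ' : IsCharacter I θ')
    (e e' : ℂ) (he : ∀ n : N, θ (Subgroup.inclusion hNI n) = e * (φ : N → ℂ) n)
    (he' : ∀ n : N, θ' (Subgroup.inclusion hNI n) = e' * (φ : N → ℂ) n) :
    classInner (Cfsg.indFun I θ) (Cfsg.indFun I θ') = classInner θ θ' := by
  classical
  rw [CharInd.classInner_indFun_right I θ' (CharInd.indFun_isClassFunction I θ)]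
  have hI0 : (Nat.card I : ℂ) ≠ 0 := Nat.cast_ne_zero.mpr Nat.card_pos.ne'
  have key : ∀ x : G, ∑ i : I, Cfsg.extendByZero I θ (x⁻¹ * i * x) * conj (θ' i) =
      if x ∈ I then (Nat.card I : ℂ) * classInner θ θ' else 0 := by
    intro x
    split_ifs with hx
    · rw [← sum_mul_conj_eq_card_mul_classInner]
      refine Finset.sum_congr rfl fun i _ => ?_
      have e1 : x⁻¹ * (i : G) * x = (((⟨x, hx⟩ : I)⁻¹ * i * ⟨x, hx⟩ : I) : G) := rfl
      rw [e1, CharInd.extendByZero_coe]
      congr 1
      exact (isClassFunction_eq_of_isConj (isCharacter_isClassFunction hθ)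
        (isConj_iff.mpr ⟨(⟨x, hx⟩ : I)⁻¹, by group⟩)).symm
    · let H : Subgroup I := (I.comap (MulAut.conj x⁻¹).toMonoidHom).subgroupOf I
      have hmem : ∀ i : I, i ∈ H ↔ x⁻¹ * (i : G) * x ∈ I := by
        intro i; simp [H, Subgroup.mem_subgroupOf, MulAut.conj_apply]
      have hzero : ∀ i : I, i ∉ H → Cfsg.extendByZero I θ (x⁻¹ * i * x) * conj (θ' i) = 0 :=
        fun i hi => by rw [CharInd.extendByZero_notMem I θ (fun h => hi ((hmem i).mpr h)), zero_mul]
      rw [← Finset.sum_filter_of_ne (p := fun i => i ∈ H) (fun i _ hi => by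
        by_contra h; exact hi (hzero i h))]
      rw [Finset.sum_subtype (p := fun i => i ∈ H) _ (fun i => by simp)]
      let cH : H →* I :=
        { toFun := fun i => ⟨x⁻¹ * ((i : I) : G) * x, (hmem i).mp i.2⟩
          map_one' := Subtype.ext (by simp)
          map_mul' := fun a b => Subtype.ext (by simp [mul_assoc]) }
      have hF : IsCharacter H (fun i : H => θ (cH i) * conj (θ' (i : I))) :=
        isCharacter_mul (isCharacter_comp hθ cH)
          (isCharacter_conjFun (isCharacter_restrict hθ' H))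
      rw [Finset.sum_congr rfl fun (i : H) _ => show
        Cfsg.extendByZero I θ (x⁻¹ * ((i : I) : G) * x) * conj (θ' (i : I)) =
          θ (cH i) * conj (θ' (i : I)) by
        rw [show x⁻¹ * ((i : I) : G) * x = ((cH i : I) : G) from rfl, CharInd.extendByZero_coe]]
      -- the subgroup `N`
      let M : Subgroup H := ((N.subgroupOf I)).subgroupOf H
      refine sum_eq_zero_of_sum_subgroup M hF ?_
      have hNH : ∀ n : N, Subgroup.inclusion hNI n ∈ H := fun n => by
        rw [hmem]; exact hNI (by simpa using hN.conj_mem n n.2 x⁻¹)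
      let eN : N ≃ M :=
        { toFun := fun n => ⟨⟨Subgroup.inclusion hNI n, hNH n⟩, n.2⟩
          invFun := fun m => ⟨(((m : H) : I) : G), m.2⟩
          left_inv := fun n => rfl
          right_inv := fun m => rfl }
      rw [← eN.sum_comp]
      let φx : IrrCharacter N := ⟨_, CharInd.conjChar_irr N x⁻¹ φ.2⟩
      have hval : ∀ n : N, θ (cH (eN n : H)) * conj (θ' ((eN n : H) : I)) =
          e * conj e' * ((φx : N → ℂ) n * conj ((φ : N → ℂ) n)) := by
        intro n
        have hxn : x⁻¹ * (n : G) * x ∈ N := by simpa using hN.conj_mem n n.2 x⁻¹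
        have h1 : cH (eN n : H) = Subgroup.inclusion hNI ⟨x⁻¹ * n * x, hxn⟩ := rfl
        have h2 : ((eN n : H) : I) = Subgroup.inclusion hNI n := rfl
        rw [h1, h2, he, he', map_mul]
        have h3 : (φ : N → ℂ) ⟨x⁻¹ * n * x, hxn⟩ = (φx : N → ℂ) n := by
          show _ = (φ : N → ℂ) _
          exact congrArg (φ : N → ℂ) (Subtype.ext (by simp))
        rw [h3]; ring
      rw [Finset.sum_congr rfl fun n _ => hval n, ← Finset.mul_sum,
        sum_mul_conj_eq_card_mul_classInner]
      have hne : (φx : N → ℂ) ≠ (φ : N → ℂ) := by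
        intro h
        apply hx
        have : x⁻¹ ∈ I := hI x⁻¹ fun n n' hn => by
          rw [← congrFun h n]
          exact congrArg (φ : N → ℂ) (Subtype.ext hn)
        simpa using I.inv_mem this
      rw [classInner_irr_ne φx.2 φ.2 hne, mul_zero, mul_zero]
  have hstep : ∑ i : I, Cfsg.indFun I θ i * conj (θ' i) =
      (Nat.card I : ℂ) * classInner θ θ' := by
    have h1 : ∀ i : I, Cfsg.indFun I θ i * conj (θ' i) =
        (Nat.card I : ℂ)⁻¹ * ∑ x : G, Cfsg.extendByZero I θ (x⁻¹ * i * x) * conj (θ' i) := fun i => by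
      rw [CharInd.indFun_apply, mul_assoc, Finset.sum_mul]
    rw [Finset.sum_congr rfl fun i _ => h1 i, ← Finset.mul_sum, Finset.sum_comm,
      Finset.sum_congr rfl fun x _ => key x, ← Finset.sum_filter, Finset.sum_const,
      ← Fintype.card_subtype, ← Nat.card_eq_fintype_card, nsmul_eq_mul, inv_mul_cancel_left₀ hI0]
  rw [sum_mul_conj_eq_card_mul_classInner] at hstep
  exact mul_left_cancel₀ hI0 hstep

/-- At most `[G : I]` linear characters restrict to a given one on `I`. -/
theorem card_le_index_mul_image [Finite G] (I : Subgroup G) (S : Set (G →* ℂˣ)) :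
    S.ncard ≤ I.index * ((fun l : G →* ℂˣ => l.comp I.subtype) '' S).ncard := by
  classical
  haveI : Finite (G →* ℂˣ) := monoidHom_complex_finite
  haveI : Fintype (G →* ℂˣ) := Fintype.ofFinite _
  have hfib : ∀ l₀ : G →* ℂˣ,
      Nat.card {l : G →* ℂˣ // l.comp I.subtype = l₀.comp I.subtype} ≤ I.index := by
    intro l₀
    -- these are linearly independent functions on the cosets
    haveI : Fintype (G ⧸ I) := Fintype.ofFinite _
    let F : {l : G →* ℂˣ // l.comp I.subtype = l₀.comp I.subtype} → (G ⧸ I → ℂ) := fun l q =>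
      (l.1 q.out : ℂ)
    have hli : LinearIndependent ℂ F := by
      have hval : ∀ (l : {l : G →* ℂˣ // l.comp I.subtype = l₀.comp I.subtype}) (g : G),
          (l.1 g : ℂ) = F l (g : G ⧸ I) * (l₀ ((g : G ⧸ I).out⁻¹ * g) : ℂ) := by
        intro l g
        have hm : (g : G ⧸ I).out⁻¹ * g ∈ I :=
          QuotientGroup.eq.mp (QuotientGroup.out_eq' (g : G ⧸ I))
        have h2 : l.1 ((g : G ⧸ I).out⁻¹ * g) = l₀ ((g : G ⧸ I).out⁻¹ * g) :=
          DFunLike.congr_fun l.2 ⟨_, hm⟩
        show _ = (l.1 _ : ℂ) * _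
        rw [← h2, ← Units.val_mul, ← map_mul, mul_inv_cancel_left]
      let T : (G ⧸ I → ℂ) →ₗ[ℂ] (G → ℂ) :=
        { toFun := fun f g => f (g : G ⧸ I) * (l₀ ((g : G ⧸ I).out⁻¹ * g) : ℂ)
          map_add' := fun a b => funext fun g => by simp [add_mul]
          map_smul' := fun c a => funext fun g => by simp [mul_assoc] }
      refine LinearIndependent.of_comp T ?_
      have h3 : T ∘ F = fun l => (fun g => (l.1 g : ℂ)) := funext fun l => funext fun g =>
        (hval l g).symm
      rw [h3]
      let toIrr : {l : G →* ℂˣ // l.comp I.subtype = l₀.comp I.subtype} → IrrCharacter G :=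
        fun l => ⟨_, isIrrCharacter_monoidHom l.1⟩
      exact irr_linearIndependent.comp toIrr fun a b h =>
        Subtype.ext (monoidHom_coe_injective (congrArg Subtype.val h))
    have h := hli.fintype_card_le_finrank
    rw [Module.finrank_fintype_fun_eq_card] at h
    simpa [Nat.card_eq_fintype_card, Subgroup.index] using h
  rw [Set.ncard_eq_toFinset_card' S, Set.ncard_eq_toFinset_card' (_ '' S), Set.toFinset_image,
    mul_comm]
  rw [mul_comm]
  refine Finset.card_le_mul_card_image_of_maps_to (fun a ha => Finset.mem_image_of_mem _ ha) _ ?_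
  intro b hb
  obtain ⟨l₀, -, rfl⟩ := Finset.mem_image.mp hb
  refine le_trans ?_ (hfib l₀)
  rw [Nat.card_eq_fintype_card, Fintype.card_subtype]
  exact Finset.card_le_card fun l hl => by
    simp only [Finset.mem_filter] at hl ⊢
    exact ⟨Finset.mem_univ _, hl.2⟩

end Cfsg.Agent.RealChar
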