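import Cfsg.Agent.RealChar.Indicator

/-!
# The sign of a real character with an odd fixed space on a subgroup
-/

set_option autoImplicit false
set_option linter.style.haveILetI false

open scoped ComplexConjugate Matrix
open Cfsg Cfsg.Agent.Char

namespace Cfsg.Agent.RealChar

universe u

variable {G : Type u} [Group G] [Fintype G]

theorem odd_fixed_fsNu_eq_one (R : Subgroup G) [Fintype R] {χ : G → ℂ}
    (hχ : IsIrrCharacter G χ) (hreal : ∀ g, conj (χ g) = χ g) {a : ℕ}
    (ha : classInner (fun r : R => χ r) (fun _ => (1 : ℂ)) = (a : ℂ)) (hodd : Odd a) :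
    fsNu χ = 1 := by
  classical
  obtain ⟨n, M, hM, hMirr⟩ := exists_matrix_rep hχ
  rcases formProj_cases M 1 (one_mul 1) (fun g => by simp) χ hχ (fun g => by simp [hM]) with
    ⟨⟨g, hg⟩, -⟩ | ⟨-, c, X, hc1, hc, hX0, hX, hXall⟩
  · exact absurd (hreal g) hg
  rcases hc1 with hc1 | hc1
  · rw [hc, hc1]
  exfalso
  have hskew : Xᵀ = -X := by rw [hXall X hX, hc1, neg_smul, one_smul]
  have hinv : ∀ g, (M g)ᵀ * X * M g = X := by
    intro g
    have hav : X = (Nat.card G : ℂ)⁻¹ • ∑ k : G, (M k)ᵀ * X * M k := by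
      conv_lhs => rw [← hX, formProj_apply]
      simp
    conv_lhs => rw [hav]
    rw [Matrix.mul_smul, Matrix.smul_mul, Finset.mul_sum, Finset.sum_mul]
    conv_rhs => rw [hav]
    congr 1
    refine Fintype.sum_equiv (Equiv.mulRight g) _ _ fun k => ?_
    show _ = (M (k * g))ᵀ * X * M (k * g)
    rw [map_mul, Matrix.transpose_mul]
    noncomm_ring
  have hXM : ∀ g, X * M g = (M g⁻¹)ᵀ * X := by
    intro g
    have h1 : (M g⁻¹)ᵀ * ((M g)ᵀ * X * M g) = (M g⁻¹)ᵀ * X := by rw [hinv g]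
    rw [← h1, ← Matrix.mul_assoc, ← Matrix.mul_assoc, ← Matrix.transpose_mul, ← map_mul,
      mul_inv_cancel, map_one, Matrix.transpose_one, Matrix.one_mul]
  have hXinj : ∀ v, X *ᵥ v = 0 → v = 0 := by
    have hker : ∀ g, ∀ v ∈ LinearMap.ker (Matrix.toLin' X),
        M g *ᵥ v ∈ LinearMap.ker (Matrix.toLin' X) := by
      intro g v hv
      rw [LinearMap.mem_ker, Matrix.toLin'_apply] at hv ⊢
      rw [Matrix.mulVec_mulVec, hXM, ← Matrix.mulVec_mulVec, hv, Matrix.mulVec_zero]
    intro v hv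
    rcases hMirr _ hker with h | h
    · have : v ∈ LinearMap.ker (Matrix.toLin' X) := by
        rw [LinearMap.mem_ker, Matrix.toLin'_apply]; exact hv
      rw [h] at this
      simpa using this
    · exfalso
      apply hX0
      have h2 : Matrix.toLin' X = 0 := LinearMap.ker_eq_top.mp h
      simpa using h2
  set P : Matrix (Fin n) (Fin n) ℂ := (Nat.card R : ℂ)⁻¹ • ∑ r : R, M r with hP
  have hN0 : (Nat.card R : ℂ) ≠ 0 := Nat.cast_ne_zero.mpr Nat.card_pos.ne'
  have hRP : ∀ r : R, M r * P = P := by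
    intro r
    rw [hP, Matrix.mul_smul, Finset.mul_sum]
    congr 1
    exact Fintype.sum_equiv (Equiv.mulLeft r) _ _ fun s => by simp
  have hPP : P * P = P := by
    conv_lhs => arg 1; rw [hP]
    rw [Matrix.smul_mul, Finset.sum_mul, Finset.sum_congr rfl fun r _ => hRP r, Finset.sum_const,
      Finset.card_univ, ← Nat.card_eq_fintype_card, ← Nat.cast_smul_eq_nsmul ℂ, smul_smul,
      inv_mul_cancel₀ hN0, one_smul]
  have hPX : Pᵀ * X = X * P := by
    rw [hP, Matrix.transpose_smul, Matrix.transpose_sum, Matrix.smul_mul, Matrix.mul_smul,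
      Finset.sum_mul, Finset.mul_sum]
    congr 1
    refine Fintype.sum_equiv (Equiv.inv R) _ _ fun r => ?_
    show (M r)ᵀ * X = X * M ((r⁻¹ : R) : G)
    rw [Subgroup.coe_inv, hXM, inv_inv]
  have htr : P.trace = (a : ℂ) := by
    rw [← ha, hP, Matrix.trace_smul, Matrix.trace_sum, classInner, smul_eq_mul]
    simp [hM]
  set W := LinearMap.range (Matrix.toLin' P) with hW
  have hproj : LinearMap.IsProj W (Matrix.toLin' P) :=
    ⟨fun v => LinearMap.mem_range_self _ v, by
      rintro _ ⟨v, rfl⟩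
      rw [← LinearMap.comp_apply, ← Matrix.toLin'_mul, hPP]⟩
  have hrank : Module.finrank ℂ W = a := by
    have h1 := hproj.trace
    rw [Matrix.trace_toLin'_eq, htr] at h1
    exact_mod_cast h1.symm
  let b := Module.finBasisOfFinrankEq ℂ W hrank
  let L : (Fin a → ℂ) →ₗ[ℂ] (Fin n → ℂ) := W.subtype ∘ₗ b.equivFun.symm.toLinearMap
  set B : Matrix (Fin n) (Fin a) ℂ := LinearMap.toMatrix' L with hB
  have hBL : ∀ x, B *ᵥ x = L x := fun x => LinearMap.toMatrix'_mulVec L x
  set Z := Bᵀ * X * B with hZ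
  have hZskew : Zᵀ = -Z := by
    rw [hZ, Matrix.transpose_mul, Matrix.transpose_mul, Matrix.transpose_transpose, hskew,
      Matrix.neg_mul, Matrix.mul_neg, Matrix.mul_assoc]
  have hZinj : ∀ x, Z *ᵥ x = 0 → x = 0 := by
    intro x hx
    have hfix : P *ᵥ (B *ᵥ x) = B *ᵥ x := by
      have := hproj.map_id (L x) (b.equivFun.symm x).2
      rwa [Matrix.toLin'_apply, ← hBL] at this
    have hrange : ∀ w, ∃ y, P *ᵥ w = B *ᵥ y := by
      intro w
      refine ⟨b.equivFun ⟨P *ᵥ w, ⟨w, Matrix.toLin'_apply P w⟩⟩, ?_⟩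
      rw [hBL]
      simp [L]
    set v := B *ᵥ x with hv
    have hort : ∀ w, w ⬝ᵥ (X *ᵥ v) = 0 := by
      intro w
      obtain ⟨y, hy⟩ := hrange w
      have h1 : y ⬝ᵥ (Z *ᵥ x) = 0 := by rw [hx]; simp
      rw [hZ, ← Matrix.mulVec_mulVec, ← Matrix.mulVec_mulVec, ← hv, Matrix.dotProduct_mulVec,
        Matrix.vecMul_transpose, ← hy, ← Matrix.vecMul_transpose, ← Matrix.dotProduct_mulVec,
        Matrix.mulVec_mulVec, hPX, ← Matrix.mulVec_mulVec, hfix] at h1
      exact h1
    have hXv : X *ᵥ v = 0 := by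
      funext i
      simpa using hort (Pi.single i 1)
    have h0 : L x = 0 := by rw [← hBL]; exact hXinj v hXv
    have h1 : b.equivFun.symm x = 0 := Subtype.ext h0
    exact (LinearEquiv.map_eq_zero_iff _).mp h1
  have hdet : Z.det ≠ 0 := by
    intro h0
    obtain ⟨x, hx, hx0⟩ := Matrix.exists_mulVec_eq_zero_iff.mpr h0
    exact hx (hZinj x hx0)
  have h2 : Z.det = -Z.det := by
    conv_lhs => rw [← Matrix.det_transpose, hZskew, Matrix.det_neg, Fintype.card_fin,
      hodd.neg_one_pow, neg_one_mul]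
  exact hdet (CharZero.eq_neg_self_iff.mp h2)

end Cfsg.Agent.RealChar
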