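import Cfsg.Agent.RealChar.Inertia
import Cfsg.Agent.CharExt.Gallagher
import Cfsg.Prelude.Def_Blocks

/-!
# Linear characters against characters induced from an inertia group
-/

set_option autoImplicit false
set_option linter.style.haveILetI false

open scoped ComplexConjugate

namespace Cfsg.Agent.RealChar

open Cfsg.Agent.Char

universe u

variable {G : Type u} [Group G]

theorem charDegree_of_eq_nat {χ : G → ℂ} {n : ℕ} (h : χ 1 = n) : Cfsg.charDegree χ = n := by
  rw [Cfsg.charDegree, h, Complex.natCast_re, Nat.floor_natCast]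

theorem eq_charDegree {χ : G → ℂ} (h : IsCharacter G χ) : χ 1 = Cfsg.charDegree χ := by
  obtain ⟨n, hn⟩ := isCharacter_one_nat h
  rw [charDegree_of_eq_nat hn, hn]

/-- The characters `(ψ λ)^G` for linear `λ` and an extension `ψ` of `φ` to its inertia group. -/
theorem exists_injective_induced [Finite G] (N : Subgroup G) (hN : N.Normal) (φ : IrrCharacter N)
    (I : Subgroup G) (hI : ∀ g : G,
      g ∈ I ↔ ∀ n n' : N, (n' : G) = g * n * g⁻¹ → (φ : N → ℂ) n' = (φ : N → ℂ) n)
    (hNI : N ≤ I) (ψ : IrrCharacter I)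
    (hψ : ∀ n : N, (ψ : I → ℂ) (Subgroup.inclusion hNI n) = (φ : N → ℂ) n)
    (hperf : ∀ (f : G →* ℂˣ) (n : N), f n = 1) :
    ∃ F : {l : I →* ℂˣ // ∃ f : G →* ℂˣ, f.comp I.subtype = l} → IrrCharacter G,
      Function.Injective F ∧ ∀ l, (∀ g : G, letI := Fintype.ofFinite G
        (F l : G → ℂ) g = Cfsg.indFun I (fun i => (ψ : I → ℂ) i * (l.1 i : ℂ)) g) ∧
      Cfsg.charDegree (F l : G → ℂ) = Cfsg.charDegree (φ : N → ℂ) * I.index ∧
      letI := Fintype.ofFinite G; letI := Fintype.ofFinite I
      classInner (fun i : I => (F l : G → ℂ) i) (fun i => (ψ : I → ℂ) i * (l.1 i : ℂ)) = 1 := by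
  classical
  letI := Fintype.ofFinite G
  letI := Fintype.ofFinite I
  letI := Fintype.ofFinite N
  haveI := hN
  have hnorm : ∀ (l : I →* ℂˣ) (i : I), (l i : ℂ) * conj (l i : ℂ) = 1 := by
    intro l i
    have h : (l i : ℂ) ^ orderOf i = 1 := by
      rw [← Units.val_pow_eq_pow_val, ← map_pow, pow_orderOf_eq_one, map_one, Units.val_one]
    rw [Complex.mul_conj', Complex.norm_eq_one_of_pow_eq_one h (orderOf_pos i).ne']
    simp
  let θ : (I →* ℂˣ) → I → ℂ := fun l i => (ψ : I → ℂ) i * (l i : ℂ)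
  have hθc : ∀ l, IsCharacter I (θ l) := fun l =>
    isCharacter_mul (isCharacter_of_irr ψ.2) (isCharacter_of_irr (isIrrCharacter_monoidHom l))
  have hθirr : ∀ l, IsIrrCharacter I (θ l) := fun l => by
    refine isIrrCharacter_iff_classInner.mpr ⟨hθc l, ?_⟩
    rw [← classInner_irr_self ψ.2]
    unfold classInner
    congr 1
    refine Finset.sum_congr rfl fun i _ => ?_
    show (ψ : I → ℂ) i * (l i : ℂ) * conj ((ψ : I → ℂ) i * (l i : ℂ)) = _
    rw [map_mul]
    linear_combination ((ψ : I → ℂ) i * conj ((ψ : I → ℂ) i)) * hnorm l i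
  have hiso : ∀ (l m : {l : I →* ℂˣ // ∃ f : G →* ℂˣ, f.comp I.subtype = l}),
      classInner (Cfsg.indFun I (θ l.1)) (Cfsg.indFun I (θ m.1)) = classInner (θ l.1) (θ m.1) := by
    intro l m
    refine classInner_indFun_inertia N I hNI φ (fun g hg => (hI g).mpr hg) (hθc l.1) (hθc m.1)
      1 1 (fun n => ?_) (fun n => ?_) <;>
    · simp only [θ, hψ, one_mul]
      first
        | (obtain ⟨f, hf⟩ := l.2; rw [← hf]; simp [hperf]; done)
        | (obtain ⟨f, hf⟩ := m.2; rw [← hf]; simp [hperf])
  have hirr : ∀ l : {l : I →* ℂˣ // ∃ f : G →* ℂˣ, f.comp I.subtype = l},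
      IsIrrCharacter G (Cfsg.indFun I (θ l.1)) := fun l =>
    isIrrCharacter_iff_classInner.mpr ⟨CharInd.isCharacter_indFun I (hθc l.1),
      (hiso l l).trans (classInner_irr_self (hθirr l.1))⟩
  refine ⟨fun l => ⟨_, hirr l⟩, ?_, fun l => ⟨fun g => rfl, ?_, ?_⟩⟩
  · intro l m h
    have h1 : Cfsg.indFun I (θ l.1) = Cfsg.indFun I (θ m.1) := congrArg Subtype.val h
    have h2 : classInner (θ l.1) (θ m.1) = 1 := by
      rw [← hiso, h1, hiso, classInner_irr_self (hθirr m.1)]
    have h3 : θ l.1 = θ m.1 := by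
      by_contra hne
      rw [classInner_irr_ne (hθirr l.1) (hθirr m.1) hne] at h2
      exact one_ne_zero h2.symm
    -- recover `l` from `ψ l` through the trace of the projection
    obtain ⟨fl, hfl⟩ := l.2
    obtain ⟨fm, hfm⟩ := m.2
    refine Subtype.ext ?_
    by_contra hne
    let d : I →* ℂˣ := m.1 * l.1⁻¹
    have hd : ∀ i : I, (ψ : I → ℂ) i * (d i : ℂ) = (ψ : I → ℂ) i := by
      intro i
      have := congrFun h3 i
      simp only [θ] at this
      simp only [d, MonoidHom.mul_apply, MonoidHom.inv_apply, Units.val_mul, Units.val_inv_eq_inv_val]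
      rw [← mul_assoc, ← this, mul_assoc, mul_inv_cancel₀ (Units.ne_zero _), mul_one]
    -- a linear character fixing `ψ` under multiplication is trivial as `ψ` restricts irreducibly
    have h4 : classInner (fun i : I => (d i : ℂ)) (fun _ => 1) = 1 := by
      have hφ : ∀ n : N, (d (Subgroup.inclusion hNI n) : ℂ) = 1 := fun n => by
        simp [d, ← hfl, ← hfm, hperf]
      haveI : (N.subgroupOf I).Normal := Subgroup.normal_subgroupOf
      let eN : N.subgroupOf I ≃* N := Subgroup.subgroupOfEquivOfLe hNI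
      have hres : IsIrrCharacter (N.subgroupOf I) (fun x : N.subgroupOf I => (ψ : I → ℂ) x) := by
        convert isIrrCharacter_comp_mulEquiv φ.2 eN using 1
        funext x
        exact (congrArg (ψ : I → ℂ) (Subtype.ext rfl)).trans (hψ (eN x))
      have hgall := CharExt.classInner_mul_mul (N.subgroupOf I) (ψ : I → ℂ) ψ.2 hres
        (fun i => (d i : ℂ)) (fun _ => 1) (fun x i => by
          have hx : (d (x : I) : ℂ) = 1 := by
            rw [← hφ (eN x)]; exact congrArg (fun y => (d y : ℂ)) (Subtype.ext rfl)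
          rw [map_mul, Units.val_mul, hx, one_mul]) (fun _ _ => rfl)
      have e1 : (fun i : I => (d i : ℂ)) * (ψ : I → ℂ) = (ψ : I → ℂ) := funext fun i => by
        show (d i : ℂ) * (ψ : I → ℂ) i = _
        rw [mul_comm]; exact hd i
      have e2 : (fun _ : I => (1 : ℂ)) * (ψ : I → ℂ) = (ψ : I → ℂ) := funext fun i => one_mul _
      rw [e1, e2, classInner_irr_self ψ.2] at hgall
      exact hgall.symm
    apply hne
    by_contra _hne'
    have h5 : (fun i : I => (d i : ℂ)) = fun _ => 1 := by
      by_contra hd1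
      rw [classInner_irr_ne (isIrrCharacter_monoidHom d) isIrrCharacter_const_one hd1] at h4
      exact zero_ne_one h4
    exact hne (MonoidHom.ext fun i => by
      have := congrFun h5 i
      simp only [d, MonoidHom.mul_apply, MonoidHom.inv_apply, Units.val_eq_one] at this
      exact (mul_inv_eq_one.mp this).symm)
  · refine charDegree_of_eq_nat ?_
    show Cfsg.indFun I (θ l.1) 1 = _
    rw [CharInd.indFun_one_apply]
    show _ * ((ψ : I → ℂ) 1 * (l.1 1 : ℂ)) = _
    rw [map_one, Units.val_one, mul_one, Nat.cast_mul, ← eq_charDegree (isCharacter_of_irr φ.2),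
      ← hψ 1, map_one, mul_comm]
  · show classInner (fun i : I => Cfsg.indFun I (θ l.1) i) (θ l.1) = 1
    rw [← CharInd.classInner_indFun_right I (θ l.1) (CharInd.indFun_isClassFunction I _), hiso,
      classInner_irr_self (hθirr l.1)]

end Cfsg.Agent.RealChar
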