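import Cfsg.Agent.RealChar.LinearCount
import Cfsg.Prelude.Def_Transfer
import Mathlib.GroupTheory.PGroup
import Mathlib.GroupTheory.Complement

/-!
# Strongly real characters of an odd elementary abelian group extended by a 2-group
-/

set_option autoImplicit false
set_option linter.style.haveILetI false

open scoped ComplexConjugate

namespace Cfsg.Agent.RealChar

open Cfsg.Agent.Char

universe u

variable {G : Type u} [Group G]

/-- Induced functions are real when a normalising element turns `θ` into its conjugate. -/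
theorem indFun_real_of_conj [Fintype G] (H : Subgroup G) (θ : H → ℂ) (z : G)
    (hz : ∀ h, h ∈ H ↔ z * h * z⁻¹ ∈ H)
    (hθ : ∀ h h' : H, (h' : G) = z * h * z⁻¹ → θ h' = conj (θ h)) (g : G) :
    conj (Cfsg.indFun H θ g) = Cfsg.indFun H θ g := by
  classical
  rw [CharInd.indFun_apply, map_mul, map_inv₀, Complex.conj_natCast, map_sum]
  congr 1
  refine Fintype.sum_equiv (Equiv.mulRight z⁻¹) _ _ fun x => ?_
  show conj (Cfsg.extendByZero H θ (x⁻¹ * g * x)) =
    Cfsg.extendByZero H θ ((x * z⁻¹)⁻¹ * g * (x * z⁻¹))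
  have e : (x * z⁻¹)⁻¹ * g * (x * z⁻¹) = z * (x⁻¹ * g * x) * z⁻¹ := by group
  rw [e]
  by_cases h : x⁻¹ * g * x ∈ H
  · have h1 := CharInd.extendByZero_coe H θ ⟨_, h⟩
    have h2 := CharInd.extendByZero_coe H θ ⟨_, (hz _).mp h⟩
    rw [h1, h2]
    exact (hθ ⟨_, h⟩ ⟨_, (hz _).mp h⟩ rfl).symm
  · rw [CharInd.extendByZero_notMem H θ h,
      CharInd.extendByZero_notMem H θ (fun h' => h ((hz _).mpr h')), map_zero]

/-- Multiplicity of a character of `N` in a character induced from its inertia group. -/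
theorem classInner_res_indFun [Fintype G] (N : Subgroup G) [hN : N.Normal] [Fintype N]
    (I : Subgroup G) (hNI : N ≤ I) (φ : IrrCharacter N)
    (hI : ∀ g : G, g ∈ I ↔ ∀ n n' : N, (n' : G) = g * n * g⁻¹ → (φ : N → ℂ) n' = (φ : N → ℂ) n)
    (θ : I → ℂ) (hθ : ∀ n : N, θ (Subgroup.inclusion hNI n) = (φ : N → ℂ) n) :
    classInner (fun n : N => Cfsg.indFun I θ n) (φ : N → ℂ) = 1 := by
  classical
  have hN0 : (Nat.card N : ℂ) ≠ 0 := Nat.cast_ne_zero.mpr Nat.card_pos.ne'
  have key : ∀ x : G, ∑ n : N, Cfsg.extendByZero I θ (x⁻¹ * n * x) * conj ((φ : N → ℂ) n) =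
      if x⁻¹ ∈ I then (Nat.card N : ℂ) else 0 := by
    intro x
    let φx : IrrCharacter N := ⟨_, CharInd.conjChar_irr N x⁻¹ φ.2⟩
    have h1 : ∀ n : N, Cfsg.extendByZero I θ (x⁻¹ * n * x) = (φx : N → ℂ) n := by
      intro n
      have hm : x⁻¹ * (n : G) * x ∈ N := by simpa using hN.conj_mem n n.2 x⁻¹
      have h3 : Cfsg.extendByZero I θ (x⁻¹ * n * x) =
          θ (Subgroup.inclusion hNI ⟨_, hm⟩) := CharInd.extendByZero_coe I θ ⟨_, hNI hm⟩
      rw [h3, hθ]
      exact congrArg (φ : N → ℂ) (Subtype.ext (by simp))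
    rw [Finset.sum_congr rfl fun n _ => by rw [h1 n], sum_mul_conj_eq_card_mul_classInner]
    split_ifs with hx
    · have : (φx : N → ℂ) = (φ : N → ℂ) := funext fun n =>
        (hI _).mp hx n ⟨_, hN.conj_mem n n.2 x⁻¹⟩ rfl
      rw [this, classInner_irr_self φ.2, mul_one]
    · rw [classInner_irr_ne φx.2 φ.2 fun h => hx ((hI _).mpr fun n n' hn => by
        rw [← congrFun h n]; exact congrArg (φ : N → ℂ) (Subtype.ext hn)), mul_zero]
  have h := sum_mul_conj_eq_card_mul_classInner (fun n : N => Cfsg.indFun I θ n) (φ : N → ℂ)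
  have h2 : ∀ n : N, Cfsg.indFun I θ n * conj ((φ : N → ℂ) n) =
      (Nat.card I : ℂ)⁻¹ * ∑ x : G, Cfsg.extendByZero I θ (x⁻¹ * n * x) * conj ((φ : N → ℂ) n) :=
    fun n => by rw [CharInd.indFun_apply, mul_assoc, Finset.sum_mul]
  rw [Finset.sum_congr rfl fun n _ => h2 n, ← Finset.mul_sum, Finset.sum_comm,
    Finset.sum_congr rfl fun x _ => key x, ← Finset.sum_filter, Finset.sum_const, nsmul_eq_mul,
    ← mul_assoc] at h
  have h3 : (Finset.univ.filter fun x : G => x⁻¹ ∈ I).card = Nat.card I := by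
    rw [← Fintype.card_subtype, ← Nat.card_eq_fintype_card]
    exact Nat.card_congr ((Equiv.inv G).subtypeEquiv fun x => Iff.rfl)
  rw [h3, inv_mul_cancel₀ (Nat.cast_ne_zero.mpr Nat.card_pos.ne'), one_mul] at h
  exact mul_left_cancel₀ hN0 (by rw [mul_one]; exact h.symm)

/-- Characters induced from the inertia group are strongly real when an involution inverts `N`. -/
theorem fsNu_indFun_eq_one [Fintype G] (N : Subgroup G) [hN : N.Normal] [Fintype N]
    (lam : N →* ℂˣ) (z : G) (hz : z * z = 1) (hzinv : ∀ n ∈ N, z * n * z = n⁻¹)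
    (T : Subgroup G) (hNT : N ≤ T)
    (hT : ∀ g : G, g ∈ T ↔ ∀ n n' : N, (n' : G) = g * n * g⁻¹ → lam n' = lam n)
    (hlam : lam ≠ 1) (hodd : Odd (Nat.card N)) (θ : T →* ℂˣ)
    (hθ : ∀ n : N, θ (Subgroup.inclusion hNT n) = lam n)
    (hzT : ∀ h, h ∈ T ↔ z * h * z⁻¹ ∈ T)
    (hθz : ∀ h h' : T, (h' : G) = z * h * z⁻¹ → (θ h' : ℂ) = conj (θ h : ℂ)) :
    IsIrrCharacter G (Cfsg.indFun T fun h => (θ h : ℂ)) ∧
      fsNu (Cfsg.indFun T fun h => (θ h : ℂ)) = 1 := by
  classical
  letI := Fintype.ofFinite T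
  have hzi : z⁻¹ = z := inv_eq_of_mul_eq_one_right hz
  let φ : IrrCharacter N := ⟨_, isIrrCharacter_monoidHom lam⟩
  have hφ : ∀ n, (φ : N → ℂ) n = lam n := fun _ => rfl
  have hT' : ∀ g : G, g ∈ T ↔
      ∀ n n' : N, (n' : G) = g * n * g⁻¹ → (φ : N → ℂ) n' = (φ : N → ℂ) n := by
    intro g; rw [hT]; simp only [hφ, Units.val_inj]
  have hθn : ∀ n : N, (θ (Subgroup.inclusion hNT n) : ℂ) = (φ : N → ℂ) n := fun n => by
    rw [hθ, hφ]
  have hθc : IsCharacter T (fun h => (θ h : ℂ)) := isCharacter_of_irr (isIrrCharacter_monoidHom θ)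
  have hχ : IsIrrCharacter G (Cfsg.indFun T fun h => (θ h : ℂ)) :=
    isIrrCharacter_iff_classInner.mpr ⟨CharInd.isCharacter_indFun T hθc,
      (classInner_indFun_inertia N T hNT φ (fun g hg => (hT' g).mpr hg) hθc hθc 1 1
        (fun n => by rw [hθn, one_mul]) (fun n => by rw [hθn, one_mul])).trans
        (classInner_irr_self (isIrrCharacter_monoidHom θ))⟩
  refine ⟨hχ, ?_⟩
  -- `z` does not fix `lam`
  have hnz : z ∉ T := by
    intro hzmem
    apply hlam
    refine MonoidHom.ext fun n => ?_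
    have h := (hT z).mp hzmem n n⁻¹ (by rw [hzi, hzinv n n.2]; rfl)
    rw [map_inv] at h
    have h2 : orderOf (lam n) ∣ 2 := by
      rw [orderOf_dvd_iff_pow_eq_one, pow_two]
      nth_rw 1 [← h]
      rw [inv_mul_cancel]
    rw [MonoidHom.one_apply]
    exact orderOf_eq_one_iff.mp (Nat.eq_one_of_dvd_coprimes (Nat.coprime_two_left.mpr hodd) h2
      ((orderOf_map_dvd lam n).trans (orderOf_dvd_natCard n)))
  -- the subgroup `D = N⟨z⟩`
  let D : Subgroup G :=
    { carrier := {g | g ∈ N ∨ g * z ∈ N}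
      one_mem' := Or.inl N.one_mem
      mul_mem' := fun {a b} ha hb => by
        rcases ha with ha | ha <;> rcases hb with hb | hb
        · exact Or.inl (N.mul_mem ha hb)
        · exact Or.inr (by simpa [mul_assoc] using N.mul_mem ha hb)
        · refine Or.inr ?_
          have := N.mul_mem ha (hN.conj_mem b hb z)
          rw [hzi] at this
          simpa [mul_assoc, ← mul_assoc z z, hz] using this
        · refine Or.inl ?_
          have h2 : z * (b * z) * z ∈ N := by simpa [hzi] using hN.conj_mem _ hb z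
          have := N.mul_mem ha h2
          simpa [mul_assoc, hz, ← mul_assoc z z] using this
      inv_mem' := fun {a} ha => by
        rcases ha with ha | ha
        · exact Or.inl (N.inv_mem ha)
        · refine Or.inr ?_
          have := hN.conj_mem _ (N.inv_mem ha) z
          simpa [mul_assoc, hz, hzi, ← mul_assoc z z] using this }
  have hND : N ≤ D := fun n hn => Or.inl hn
  have hzD : z ∈ D := Or.inr (by rw [hz]; exact N.one_mem)
  letI := Fintype.ofFinite D
  let N' : Subgroup D := N.subgroupOf D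
  letI := Fintype.ofFinite N'
  haveI : N'.Normal := Subgroup.normal_subgroupOf
  let e : N' ≃* N := Subgroup.subgroupOfEquivOfLe hND
  let φ' : IrrCharacter N' := ⟨_, isIrrCharacter_monoidHom (lam.comp e.toMonoidHom)⟩
  have hI' : ∀ g : D, g ∈ N' ↔
      ∀ n n' : N', (n' : D) = g * n * g⁻¹ → (φ' : N' → ℂ) n' = (φ' : N' → ℂ) n := by
    intro g
    constructor
    · intro hg n n' hn
      show ((lam (e n') : ℂˣ) : ℂ) = lam (e n)
      have h : e n' = ⟨(g : G), hg⟩ * e n * ⟨(g : G), hg⟩⁻¹ :=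
        Subtype.ext (show ((n' : D) : G) = (g : G) * ((n : D) : G) * (g : G)⁻¹ from
          congrArg (fun x : D => (x : G)) hn)
      rw [h, map_mul, map_mul, map_inv, mul_comm (lam ⟨(g : G), hg⟩), mul_inv_cancel_right]
    · intro hg
      rcases g.2 with hgN | hgz
      · exact hgN
      · exfalso
        have hgT : (g : G) ∈ T := by
          rw [hT]
          intro n n' hn
          have := hg (e.symm n) (e.symm n') (Subtype.ext hn)
          exact Units.val_inj.mp (by simpa [φ'] using this)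
        apply hnz
        have h2 := T.mul_mem (T.inv_mem hgT) (hNT hgz)
        simpa using h2
  let η : D → ℂ := Cfsg.indFun N' (φ' : N' → ℂ)
  have hηirr : IsIrrCharacter D η :=
    isIrrCharacter_iff_classInner.mpr ⟨CharInd.isCharacter_indFun N' (isCharacter_of_irr φ'.2),
      (classInner_indFun_inertia N' N' le_rfl φ' (fun g hg => (hI' g).mpr hg)
        (isCharacter_of_irr φ'.2) (isCharacter_of_irr φ'.2) 1 1
        (fun n => (one_mul _).symm) (fun n => (one_mul _).symm)).trans
        (classInner_irr_self φ'.2)⟩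
  have hηreal : ∀ g : D, conj (η g) = η g := by
    refine indFun_real_of_conj N' _ ⟨z, hzD⟩ (fun h => ?_) fun h h' hh => ?_
    · show (h : G) ∈ N ↔ z * (h : G) * z⁻¹ ∈ N
      exact ⟨fun hm => hN.conj_mem _ hm z, fun hm => by
        have := hN.conj_mem _ hm z⁻¹
        simpa [mul_assoc] using this⟩
    · show ((lam (e h') : ℂˣ) : ℂ) = conj ((lam (e h) : ℂˣ) : ℂ)
      have h1 : e h' = (e h)⁻¹ := Subtype.ext (by
        show ((h' : D) : G) = ((h : D) : G)⁻¹
        rw [← hzinv ((h : D) : G) h.2, hh]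
        show z * ((h : D) : G) * z⁻¹ = _
        rw [hzi])
      rw [h1]
      exact (irr_inv φ.2 (e h))
  -- multiplicities
  have hm1 : classInner (fun n : N => Cfsg.indFun T (fun h => (θ h : ℂ)) n) (φ : N → ℂ) = 1 :=
    classInner_res_indFun N T hNT φ hT' _ hθn
  have hmD : classInner (fun x : D => Cfsg.indFun T (fun h => (θ h : ℂ)) x) η = 1 := by
    rw [CharInd.classInner_indFun_right N' _ (isCharacter_isClassFunction
      (isCharacter_restrict (isCharacter_of_irr hχ) D)), ← hm1]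
    unfold classInner
    rw [Nat.card_congr e.toEquiv]
    congr 1
    exact Fintype.sum_equiv e.toEquiv _ _ fun x => rfl
  have hzne : (⟨z, hzD⟩ : D) ∉ N' := fun h => hnz (hNT h)
  have hχreal := indFun_real_of_conj T (fun h => (θ h : ℂ)) z hzT hθz
  rw [fsNu_eq_of_restrict D hχ hηirr hχreal hηreal hmD]
  -- `η` has the trivial constituent once on `⟨z⟩`
  let zD : D := ⟨z, hzD⟩
  let Z : Subgroup D :=
    { carrier := {g | g = 1 ∨ g = zD}
      one_mem' := Or.inl rfl
      mul_mem' := fun {a b} ha hb => by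
        have hzz : zD * zD = 1 := Subtype.ext hz
        rcases ha with rfl | rfl <;> rcases hb with rfl | rfl <;> simp [hzz]
      inv_mem' := fun {a} ha => by
        rcases ha with rfl | rfl
        · simp
        · exact Or.inr (Subtype.ext hzi) }
  letI := Fintype.ofFinite Z
  have hz1 : zD ≠ 1 := fun h => hzne (show zD ∈ N' by rw [h]; exact N'.one_mem)
  have hZuniv : (Finset.univ : Finset Z) = {1, ⟨zD, Or.inr rfl⟩} := by
    ext ⟨g, hg⟩
    simp only [Finset.mem_univ, Finset.mem_insert, Finset.mem_singleton, true_iff]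
    rcases hg with rfl | rfl
    · exact Or.inl rfl
    · exact Or.inr rfl
  have hne : (1 : Z) ≠ ⟨zD, Or.inr rfl⟩ := fun h => hz1 (congrArg Subtype.val h).symm
  have hZcard : Nat.card Z = 2 := by
    rw [Nat.card_eq_fintype_card, ← Finset.card_univ, hZuniv, Finset.card_pair hne]
  have hindex : N'.index = 2 := by
    rw [Subgroup.index_eq_two_iff]
    refine ⟨zD, fun b => ?_⟩
    rcases b.2 with hb | hb
    · exact Or.inr ⟨hb, fun h => hnz (hNT (by
        have := N.mul_mem (N.inv_mem hb) (show (b : G) * z ∈ N from h)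
        simpa using this))⟩
    · exact Or.inl ⟨hb, fun h => hnz (hNT (by
        have := N.mul_mem (N.inv_mem (show (b : G) ∈ N from h)) hb
        simpa using this))⟩
  have hmult : classInner (fun x : Z => η x) (fun _ : Z => (1 : ℂ)) = 1 := by
    rw [classInner, hZcard, hZuniv, Finset.sum_pair hne]
    show (2 : ℂ)⁻¹ * (η 1 * conj (1 : ℂ) + η zD * conj (1 : ℂ)) = 1
    rw [show η zD = 0 from CharInd.indFun_normal_notMem N' _ hzne]
    rw [show η 1 = (N'.index : ℂ) * (φ' : N' → ℂ) 1 from CharInd.indFun_one_apply N' _, hindex]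
    show (2 : ℂ)⁻¹ * ((2 : ℕ) * (((lam.comp e.toMonoidHom) 1 : ℂˣ) : ℂ) * conj (1 : ℂ) + 0 * _) = 1
    rw [map_one, Units.val_one, map_one]
    norm_num
  rw [fsNu_eq_of_restrict Z hηirr isIrrCharacter_const_one hηreal (fun _ => map_one _) hmult,
    fsNu_eq_sum]
  simp

/-- The average degree bound. -/
theorem four_thirds_bound [Finite G] (N P : Subgroup G) (hN : N.Normal) (q : ℕ) [Fact q.Prime]
    (hq : q ≠ 2) (hNel : Cfsg.IsElementaryAbelian q N) (hP : IsPGroup 2 P) (hP1 : P ≠ ⊥)
    (hdisj : N ⊓ P = ⊥) (hprod : N ⊔ P = ⊤)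
    (hmin : N ≠ ⊥ ∧ ∀ M : Subgroup G, M.Normal → M ≠ ⊥ → N ≤ M) :
    4 * Nat.card {χ : IrrCharacter G // (Cfsg.charDegree (χ : G → ℂ) = 1 ∨
        2 ∣ Cfsg.charDegree (χ : G → ℂ)) ∧ fsNu (χ : G → ℂ) = 1} ≤
      3 * ∑ᶠ χ : {χ : IrrCharacter G // (Cfsg.charDegree (χ : G → ℂ) = 1 ∨
        2 ∣ Cfsg.charDegree (χ : G → ℂ)) ∧ fsNu (χ : G → ℂ) = 1},
          Cfsg.charDegree (χ.1 : G → ℂ) := by
  classical
  letI := Fintype.ofFinite G
  letI := Fintype.ofFinite N
  haveI := hN
  obtain ⟨hNc, hNpow⟩ := hNel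
  have hqodd : Odd q := (Fact.out (p := q.Prime)).odd_of_ne_two hq
  have hcomm : ∀ a ∈ N, ∀ b ∈ N, a * b = b * a := fun a ha b hb =>
    congrArg Subtype.val (hNc.is_comm.comm (⟨a, ha⟩ : N) ⟨b, hb⟩)
  have hord : ∀ n ∈ N, n * n = 1 → n = 1 := by
    intro n hn h2
    refine orderOf_eq_one_iff.mp (Nat.eq_one_of_dvd_coprimes (Nat.coprime_two_left.mpr hqodd)
      (orderOf_dvd_of_pow_eq_one ?_) (orderOf_dvd_of_pow_eq_one (hNpow n hn)))
    rw [pow_two, h2]
  have hNodd : Odd (Nat.card N) := by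
    rw [← Nat.not_even_iff_odd, even_iff_two_dvd]
    intro h
    obtain ⟨t, ht⟩ := exists_prime_orderOf_dvd_card' (G := N) 2 h
    have h1 : (t : G) = 1 := hord t t.2 (by
      rw [← Subgroup.coe_mul, ← pow_two, ← ht, pow_orderOf_eq_one]; rfl)
    rw [show t = 1 from Subtype.ext h1, orderOf_one] at ht
    omega
  -- the decomposition
  have hsplit : ∀ g : G, ∃ n : N, ∃ s : P, (n : G) * s = g := by
    intro g
    have : g ∈ ((N ⊔ P : Subgroup G) : Set G) := by rw [hprod]; trivial
    rw [Subgroup.normal_mul] at this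
    obtain ⟨n, hn, s, hs, e⟩ := this
    exact ⟨⟨n, hn⟩, ⟨s, hs⟩, e⟩
  have huniq : ∀ (n m : N) (s t : P), (n : G) * s = m * t → n = m ∧ s = t := by
    intro n m s t h
    have h1 : (m : G)⁻¹ * n = t * (s : G)⁻¹ := by
      calc (m : G)⁻¹ * n = (m : G)⁻¹ * (n * s) * (s : G)⁻¹ := by group
        _ = t * (s : G)⁻¹ := by rw [h]; group
    have h2 : (m : G)⁻¹ * n ∈ N ⊓ P :=
      ⟨N.mul_mem (N.inv_mem m.2) n.2, h1 ▸ P.mul_mem t.2 (P.inv_mem s.2)⟩
    rw [hdisj, Subgroup.mem_bot] at h2
    refine ⟨Subtype.ext (inv_mul_eq_one.mp h2).symm, Subtype.ext ?_⟩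
    rw [h2] at h1
    exact (mul_inv_eq_one.mp h1.symm).symm
  -- the inverting central involution
  haveI : Nontrivial P := P.nontrivial_iff_ne_bot.mpr hP1
  haveI := hP.center_nontrivial
  obtain ⟨z₀, hz₀⟩ : ∃ z : Subgroup.center P, orderOf z = 2 := by
    obtain ⟨k, hk0, hk⟩ := (hP.to_subgroup (Subgroup.center P)).nontrivial_iff_card.mp inferInstance
    exact exists_prime_orderOf_dvd_card' 2 (hk ▸ dvd_pow_self 2 hk0.ne')
  set z : G := ((z₀ : P) : G) with hzdef
  have hzP : z ∈ P := (z₀ : P).2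
  have hzcen : ∀ s ∈ P, s * z = z * s := fun s hs =>
    congrArg Subtype.val (Subgroup.mem_center_iff.mp z₀.2 ⟨s, hs⟩)
  have hzz : z * z = 1 := by
    have h := congrArg (fun x : Subgroup.center P => ((x : P) : G)) (pow_orderOf_eq_one z₀)
    rw [hz₀] at h
    simpa [pow_two] using h
  have hzi : z⁻¹ = z := inv_eq_of_mul_eq_one_right hzz
  have hz1 : z ≠ 1 := fun h => by
    have : z₀ = 1 := Subtype.ext (Subtype.ext h)
    rw [this, orderOf_one] at hz₀
    omega
  have hfree : ∀ n ∈ N, z * n * z = n → n = 1 := by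
    let M : Subgroup G := N ⊓ Subgroup.centralizer ({z} : Set G)
    have hM : M.Normal := by
      refine ⟨fun a ha g => ?_⟩
      obtain ⟨m, s, rfl⟩ := hsplit g
      obtain ⟨haN, haz⟩ := ha
      have h1 : (s : G) * a * (s : G)⁻¹ ∈ N := hN.conj_mem a haN s
      have h2 : (m : G) * s * a * ((m : G) * s)⁻¹ = (s : G) * a * (s : G)⁻¹ := by
        calc (m : G) * s * a * ((m : G) * s)⁻¹ = m * ((s : G) * a * (s : G)⁻¹) * (m : G)⁻¹ := by group
          _ = (s : G) * a * (s : G)⁻¹ := by rw [hcomm _ m.2 _ h1, mul_inv_cancel_right]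
      rw [h2]
      refine ⟨h1, ?_⟩
      replace haz := Subgroup.mem_centralizer_singleton_iff.mp haz
      apply Subgroup.mem_centralizer_singleton_iff.mpr
      have hs : Commute (s : G) z := hzcen s s.2
      exact ((hs.mul_left (show Commute a z from haz)).mul_left hs.inv_left).eq
    intro n hn hzn
    by_contra hn1
    have hnM : n ∈ M := ⟨hn, by
      apply Subgroup.mem_centralizer_singleton_iff.mpr
      calc n * z = z * n * z * z := by rw [hzn]
        _ = z * n := by rw [mul_assoc (z * n), hzz, mul_one]⟩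
    have hle := hmin.2 M hM fun h => hn1 (by rwa [h, Subgroup.mem_bot] at hnM)
    have hzc : z ∈ Subgroup.center G := by
      rw [Subgroup.mem_center_iff]
      intro g
      obtain ⟨m, s, rfl⟩ := hsplit g
      exact ((show Commute (m : G) z from Subgroup.mem_centralizer_singleton_iff.mp (hle m.2).2).mul_left
        (hzcen s s.2)).eq
    have hnorm : (Subgroup.zpowers z).Normal := by
      refine ⟨fun a ha g => ?_⟩
      obtain ⟨i, rfl⟩ := ha
      rw [Subgroup.mem_center_iff.mp (Subgroup.zpow_mem _ hzc i) g, mul_inv_cancel_right]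
      exact ⟨i, rfl⟩
    have := hmin.2 _ hnorm (by rw [Ne, Subgroup.zpowers_eq_bot]; exact hz1)
    have hle2 : N ≤ N ⊓ P := le_inf le_rfl (this.trans (Subgroup.zpowers_le.mpr hzP))
    rw [hdisj] at hle2
    exact hmin.1 (le_bot_iff.mp hle2)
  have hzinv : ∀ n ∈ N, z * n * z = n⁻¹ := by
    intro n hn
    have hc : z * n * z ∈ N := by
      have := hN.conj_mem n hn z
      rwa [hzi] at this
    have h1 := hfree (z * n * z * n) (N.mul_mem hc hn) (by
      calc z * (z * n * z * n) * z = (z * z) * n * (z * n * z) := by group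
        _ = n * (z * n * z) := by rw [hzz, one_mul]
        _ = z * n * z * n := hcomm n hn _ hc)
    exact eq_inv_of_mul_eq_one_left h1
  -- a nontrivial linear character of `N`
  obtain ⟨lam, hlam⟩ : ∃ lam : N →* ℂˣ, lam ≠ 1 := by
    haveI : Nontrivial N := N.nontrivial_iff_ne_bot.mpr hmin.1
    obtain ⟨a, ha⟩ := exists_ne (1 : N)
    obtain ⟨χ, hχ⟩ := exists_irr_ne_degree ha
    haveI : IsMulCommutative N := hNc
    obtain ⟨k, ρ, hρ, hρχ⟩ := χ.2
    have h1 : (χ : N → ℂ) 1 = 1 := by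
      rw [← hρχ, ρ.char_one, Representation.IsIrreducible.finrank_eq_one_of_isMulCommutative ρ,
        Nat.cast_one]
    obtain ⟨f, hf⟩ := exists_monoidHom_of_degree_one (isCharacter_of_irr χ.2) h1
    exact ⟨f, fun h => hχ (by rw [hf a, hf 1, h]; rfl)⟩
  -- inertia group
  have hcj : ∀ (g : G) (n : N), g * (n : G) * g⁻¹ ∈ N := fun g n => hN.conj_mem n n.2 g
  let T : Subgroup G :=
    { carrier := {g | ∀ n : N, lam ⟨_, hcj g n⟩ = lam n}
      one_mem' := fun n => by simp
      mul_mem' := fun {a b} ha hb n => by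
        rw [← hb n, ← ha ⟨_, hcj b n⟩]
        congr 1
        exact Subtype.ext (by group)
      inv_mem' := fun {a} ha n => by
        rw [← ha ⟨_, hcj a⁻¹ n⟩]
        congr 1
        exact Subtype.ext (by group) }
  have hT : ∀ g : G, g ∈ T ↔ ∀ n n' : N, (n' : G) = g * n * g⁻¹ → lam n' = lam n := by
    intro g
    refine ⟨fun h n n' hn => ?_, fun h n => h n _ rfl⟩
    rw [← h n]; exact congrArg lam (Subtype.ext hn)
  have hNT : N ≤ T := by
    intro m hm
    rw [hT]
    intro n n' hn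
    congr 1
    refine Subtype.ext ?_
    rw [hn, hcomm m hm n n.2, mul_inv_cancel_right]
  let S : Subgroup P := T.subgroupOf P
  have hTsplit : ∀ (n : N) (s : P), (n : G) * s ∈ T → s ∈ S := fun n s h => by
    rw [Subgroup.mem_subgroupOf]
    simpa using T.mul_mem (T.inv_mem (hNT n.2)) h
  choose nn ss hns using hsplit
  -- the real linear characters of `S`
  let A := {μ : S →* ℂˣ // ∀ s, μ s * μ s = 1}
  have hexθ : ∀ μ : A, ∃ θ : T →* ℂˣ, (∀ n : N, θ (Subgroup.inclusion hNT n) = lam n) ∧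
      (∀ (s : S) (h : ((s : P) : G) ∈ T), θ ⟨_, h⟩ = μ.1 s) ∧
      ∀ h h' : T, (h' : G) = z * h * z⁻¹ → (θ h' : ℂ) = conj (θ h : ℂ) := by
    intro μ
    have hmemS : ∀ t : T, ss (t : G) ∈ S := fun t =>
      hTsplit (nn (t : G)) _ (by rw [hns]; exact t.2)
    let f : T → ℂˣ := fun t => lam (nn (t : G)) * μ.1 ⟨ss (t : G), hmemS t⟩
    have hf : ∀ (t : T) (n : N) (s : S), (t : G) = n * ((s : P) : G) → f t = lam n * μ.1 s := by
      intro t n s h
      obtain ⟨h1, h2⟩ := huniq _ _ _ _ ((hns (t : G)).trans h)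
      simp only [f]
      congr 2
      exact Subtype.ext h2
    let θ : T →* ℂˣ := MonoidHom.mk' f fun a b => by
      have hsT : ((ss (a : G) : P) : G) ∈ T := hmemS a
      have h := hf (a * b) (nn (a : G) * ⟨_, hcj (ss (a : G)) (nn (b : G))⟩)
        (⟨ss (a : G), hmemS a⟩ * ⟨ss (b : G), hmemS b⟩) (by
          push_cast
          conv_lhs => rw [← hns (a : G), ← hns (b : G)]
          group)
      rw [h, map_mul, map_mul]
      simp only [f]
      rw [show lam ⟨_, hcj (ss (a : G)) (nn (b : G))⟩ = lam (nn (b : G)) from hsT (nn (b : G))]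
      exact mul_mul_mul_comm _ _ _ _
    refine ⟨θ, fun n => ?_, fun s h => ?_, fun h h' hh => ?_⟩
    · show f _ = _
      rw [hf _ n 1 (by simp), map_one, mul_one]
    · show f _ = _
      rw [hf _ 1 s (by simp), map_one, one_mul]
    · show (f h' : ℂ) = conj (f h : ℂ)
      have hs : ∀ s : P, z * (s : G) * z = s := fun s => by
        rw [← hzcen s s.2, mul_assoc, hzz, mul_one]
      have e : (h' : G) = (((nn (h : G))⁻¹ : N) : G) * ((ss (h : G) : P) : G) := by
        rw [hh, hzi]
        conv_lhs => rw [← hns (h : G)]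
        push_cast
        rw [← hzinv _ (nn (h : G)).2]
        calc z * ((nn (h : G) : G) * (ss (h : G) : G)) * z
            = z * (nn (h : G) : G) * (z * z) * (ss (h : G) : G) * z := by rw [hzz]; group
          _ = z * (nn (h : G) : G) * z * (z * (ss (h : G) : G) * z) := by group
          _ = z * (nn (h : G) : G) * z * (ss (h : G) : G) := by rw [hs]
      rw [hf h' _ ⟨ss (h : G), hmemS h⟩ e]
      simp only [f, Units.val_mul, map_mul, map_inv]
      congr 1
      · have := irr_inv (isIrrCharacter_monoidHom lam) (nn (h : G))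
        simpa using this
      · have h2 := congrArg Units.val (μ.2 ⟨ss (h : G), hmemS h⟩)
        rw [Units.val_mul, Units.val_one, mul_self_eq_one_iff] at h2
        rcases h2 with h2 | h2 <;> simp [h2]
  choose Θ hΘn hΘs hΘz using hexθ
  have hzT : ∀ h, h ∈ T ↔ z * h * z⁻¹ ∈ T := by
    have key : ∀ h, h ∈ T → z * h * z⁻¹ ∈ T := by
      intro h hh
      rw [hzi, ← hns h]
      have hs := hTsplit (nn h) (ss h) (by rw [hns]; exact hh)
      have e : z * ((nn h : G) * (ss h : G)) * z = (nn h : G)⁻¹ * (ss h : G) := by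
        rw [← hzinv _ (nn h).2]
        calc z * ((nn h : G) * (ss h : G)) * z
            = z * (nn h : G) * (z * z) * (ss h : G) * z := by rw [hzz]; group
          _ = z * (nn h : G) * z * (z * (ss h : G) * z) := by group
          _ = z * (nn h : G) * z * (ss h : G) := by
              rw [← hzcen _ (ss h).2, mul_assoc (ss h : G), hzz, mul_one]
      rw [e]
      exact T.mul_mem (T.inv_mem (hNT (nn h).2)) hs
    refine fun h => ⟨key h, fun hh => ?_⟩
    have h2 := key _ hh
    rw [hzi] at h2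
    have e : z * (z * h * z) * z = h := by
      calc z * (z * h * z) * z = (z * z) * h * (z * z) := by group
        _ = h := by rw [hzz, one_mul, mul_one]
    rwa [e] at h2
  have hzS : z ∉ T := by
    intro hzT'
    apply hlam
    refine MonoidHom.ext fun n => ?_
    have h := (hT z).mp hzT' n n⁻¹ (by rw [hzi, hzinv n n.2]; rfl)
    rw [map_inv] at h
    have h2 : orderOf (lam n) ∣ 2 := by
      rw [orderOf_dvd_iff_pow_eq_one, pow_two]
      nth_rw 1 [← h]
      rw [inv_mul_cancel]
    rw [MonoidHom.one_apply]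
    exact orderOf_eq_one_iff.mp (Nat.eq_one_of_dvd_coprimes (Nat.coprime_two_left.mpr hNodd) h2
      ((orderOf_map_dvd lam n).trans (orderOf_dvd_natCard n)))
  let C := {χ : IrrCharacter G // (Cfsg.charDegree (χ : G → ℂ) = 1 ∨
    2 ∣ Cfsg.charDegree (χ : G → ℂ)) ∧ fsNu (χ : G → ℂ) = 1}
  haveI : Finite (P →* ℂˣ) := monoidHom_complex_finite
  haveI : Finite (S →* ℂˣ) := monoidHom_complex_finite
  letI : Fintype A := Fintype.ofFinite _
  letI : Fintype C := Fintype.ofFinite _
  have hmain : ∀ μ : A, IsIrrCharacter G (Cfsg.indFun T fun h => (Θ μ h : ℂ)) ∧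
      fsNu (Cfsg.indFun T fun h => (Θ μ h : ℂ)) = 1 := fun μ =>
    fsNu_indFun_eq_one N lam z hzz hzinv T hNT hT hlam hNodd (Θ μ) (hΘn μ) hzT (hΘz μ)
  have hdeg : ∀ μ : A, Cfsg.charDegree (Cfsg.indFun T fun h => (Θ μ h : ℂ)) = T.index := fun μ =>
    charDegree_of_eq_nat (by rw [CharInd.indFun_one_apply]; simp)
  have hindexS : T.index = S.index := by
    refine Eq.symm ?_
    show Nat.card (P ⧸ S) = Nat.card (G ⧸ T)
    refine Nat.card_eq_of_bijective
      (Quotient.lift (fun s : P => ((s : G) : G ⧸ T)) fun a b h => QuotientGroup.eq.mpr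
        (by simpa [S, Subgroup.mem_subgroupOf] using (QuotientGroup.leftRel_apply.mp h))) ⟨?_, ?_⟩
    · rintro ⟨a⟩ ⟨b⟩ h
      exact QuotientGroup.eq.mpr
        (by rw [Subgroup.mem_subgroupOf]; simpa using QuotientGroup.eq.mp h)
    · intro q'
      obtain ⟨g, rfl⟩ := QuotientGroup.mk_surjective q'
      refine ⟨QuotientGroup.mk (ss g), QuotientGroup.eq.mpr ?_⟩
      have h1 : ((ss g : P) : G)⁻¹ * g = (ss g : G)⁻¹ * (nn g : G) * (ss g : G) := by
        rw [mul_assoc, hns g]
      rw [h1]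
      exact hNT (by simpa using hN.conj_mem _ (nn g).2 (ss g : G)⁻¹)
  have hd2 : 2 ∣ T.index := by
    obtain ⟨j, hj⟩ := hP.exists_card_eq
    have h1 : S.index ∣ 2 ^ j := hj ▸ S.index_dvd_card
    obtain ⟨i, -, hi⟩ := (Nat.dvd_prime_pow Nat.prime_two).mp h1
    rcases Nat.eq_zero_or_pos i with rfl | hi0
    · exfalso
      apply hzS
      have hS : S = ⊤ := Subgroup.index_eq_one.mp (by simpa using hi)
      have : (⟨z, hzP⟩ : P) ∈ S := by rw [hS]; trivial
      exact this
    · rw [hindexS, hi]; exact dvd_pow_self 2 hi0.ne'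
  let F : A → C := fun μ =>
    ⟨⟨_, (hmain μ).1⟩, Or.inr ((hdeg μ).symm ▸ hd2), (hmain μ).2⟩
  have hFinj : Function.Injective F := by
    intro μ ν h
    letI := Fintype.ofFinite T
    have h1 : Cfsg.indFun T (fun h => (Θ μ h : ℂ)) = Cfsg.indFun T fun h => (Θ ν h : ℂ) :=
      congrArg (fun c : C => (c.1 : G → ℂ)) h
    let φ : IrrCharacter N := ⟨_, isIrrCharacter_monoidHom lam⟩
    have hT' : ∀ g : G, (∀ n n' : N, (n' : G) = g * n * g⁻¹ →
        (φ : N → ℂ) n' = (φ : N → ℂ) n) → g ∈ T := fun g hg =>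
      (hT g).mpr fun n n' hn => Units.val_inj.mp (hg n n' hn)
    have hval : ∀ (a : A) (n : N), ((Θ a (Subgroup.inclusion hNT n) : ℂˣ) : ℂ) =
        1 * (φ : N → ℂ) n := fun a n => by rw [hΘn, one_mul]
    have hiso : ∀ a b : A, classInner (Cfsg.indFun T fun h => (Θ a h : ℂ))
        (Cfsg.indFun T fun h => (Θ b h : ℂ)) =
          classInner (fun h => (Θ a h : ℂ)) (fun h => (Θ b h : ℂ)) := fun a b =>
      classInner_indFun_inertia N T hNT φ hT'
        (isCharacter_of_irr (isIrrCharacter_monoidHom _))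
        (isCharacter_of_irr (isIrrCharacter_monoidHom _)) 1 1 (hval a) (hval b)
    have h2 := hiso μ ν
    rw [h1, hiso ν ν, classInner_irr_self (isIrrCharacter_monoidHom _)] at h2
    have h3 : (fun h : T => (Θ μ h : ℂ)) = fun h => (Θ ν h : ℂ) := by
      by_contra hne
      rw [classInner_irr_ne (isIrrCharacter_monoidHom _) (isIrrCharacter_monoidHom _) hne] at h2
      exact one_ne_zero h2
    refine Subtype.ext (MonoidHom.ext fun s => ?_)
    have hsT : ((s : P) : G) ∈ T := s.2
    rw [← hΘs μ s hsT, ← hΘs ν s hsT]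
    exact Units.val_inj.mp (congrFun h3 ⟨_, hsT⟩)
  -- linear members
  have hlin : (Finset.univ.filter fun c : C => Cfsg.charDegree (c.1 : G → ℂ) = 1).card ≤
      T.index * Fintype.card A := by
    let Sset : Set (P →* ℂˣ) := {f | ∀ s, f s * f s = 1}
    have h1 := card_le_index_mul_image S Sset
    have h2 : ((fun l : P →* ℂˣ => l.comp S.subtype) '' Sset).ncard ≤ Fintype.card A := by
      rw [← Nat.card_coe_set_eq, ← Nat.card_eq_fintype_card]
      refine Nat.card_le_card_of_injective (fun l => (⟨l.1, fun s => by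
        obtain ⟨f, hf, e⟩ := l.2
        rw [← e]; exact hf s⟩ : A)) fun a b hab => Subtype.ext (congrArg Subtype.val hab :)
    rw [← hindexS] at h1
    refine le_trans ?_ (h1.trans (Nat.mul_le_mul_left _ h2))
    rw [← Fintype.card_subtype, ← Nat.card_eq_fintype_card, ← Nat.card_coe_set_eq]
    choose f hf using fun c : {c : C // Cfsg.charDegree (c.1 : G → ℂ) = 1} =>
      exists_monoidHom_of_degree_one (isCharacter_of_irr c.1.1.2)
        (by rw [eq_charDegree (isCharacter_of_irr c.1.1.2), c.2, Nat.cast_one])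
    have hsq : ∀ c g, f c g * f c g = 1 := by
      intro c g
      have hr := real_of_fsNu_ne_zero c.1.1.2 (by rw [c.1.2.2]; exact one_ne_zero) g
      rw [hf c g] at hr
      have hone : (f c g : ℂ) ^ orderOf g = 1 := by
        rw [← Units.val_pow_eq_pow_val, ← map_pow, pow_orderOf_eq_one, map_one, Units.val_one]
      apply Units.ext
      rw [Units.val_mul, Units.val_one]
      nth_rw 2 [← hr]
      rw [Complex.mul_conj', Complex.norm_eq_one_of_pow_eq_one hone (orderOf_pos g).ne']
      simp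
    refine Nat.card_le_card_of_injective
      (fun c => (⟨(f c).comp P.subtype, fun s => hsq c s⟩ : Sset)) ?_
    intro a b hab
    refine Subtype.ext (Subtype.ext (Subtype.ext (funext fun g => ?_)))
    have h3 : ∀ (c : {c : C // Cfsg.charDegree (c.1 : G → ℂ) = 1}) (n : N), f c n = 1 := by
      intro c n
      refine orderOf_eq_one_iff.mp (Nat.eq_one_of_dvd_coprimes (Nat.coprime_two_left.mpr hNodd)
        (orderOf_dvd_of_pow_eq_one (by rw [pow_two]; exact hsq c n))
        ((orderOf_map_dvd (f c) (n : G)).trans ?_))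
      rw [Subgroup.orderOf_coe]
      exact orderOf_dvd_natCard n
    rw [hf a g, hf b g, ← hns g, map_mul, map_mul, h3, h3]
    congr 2
    exact DFunLike.congr_fun (congrArg Subtype.val hab) (ss g)
  -- summation
  rw [finsum_eq_sum_of_fintype]
  show 4 * Nat.card C ≤ 3 * ∑ c : C, Cfsg.charDegree (c.1 : G → ℂ)
  set u := Finset.univ.filter (fun c : C => Cfsg.charDegree (c.1 : G → ℂ) = 1) with hu
  set v := Finset.univ.filter (fun c : C => ¬ Cfsg.charDegree (c.1 : G → ℂ) = 1) with hv
  have hdis : Finset.univ.image F ⊆ v := by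
    intro c hc
    obtain ⟨μ, -, rfl⟩ := Finset.mem_image.mp hc
    rw [hv, Finset.mem_filter]
    refine ⟨Finset.mem_univ _, ?_⟩
    show ¬ Cfsg.charDegree (Cfsg.indFun T fun h => (Θ μ h : ℂ)) = 1
    rw [hdeg]; omega
  have hw : ∀ c ∈ v, 2 ≤ Cfsg.charDegree (c.1 : G → ℂ) := by
    intro c hc
    rw [hv, Finset.mem_filter] at hc
    have hpos : 0 < Cfsg.charDegree (c.1 : G → ℂ) := by
      obtain ⟨n, hn, hn'⟩ := irr_one_pos c.1.2
      rw [charDegree_of_eq_nat hn']; exact hn
    have := hc.2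
    omega
  have hcardC : Nat.card C = u.card + v.card := by
    rw [hu, hv, Finset.card_filter_add_card_filter_not, Finset.card_univ, Nat.card_eq_fintype_card]
  have hsumC : ∑ c : C, Cfsg.charDegree (c.1 : G → ℂ) =
      u.card + ∑ c ∈ v, Cfsg.charDegree (c.1 : G → ℂ) := by
    rw [← Finset.sum_filter_add_sum_filter_not Finset.univ
      (fun c : C => Cfsg.charDegree (c.1 : G → ℂ) = 1), ← hu, ← hv]
    congr 1
    rw [Finset.card_eq_sum_ones]
    exact Finset.sum_congr rfl fun c hc => (Finset.mem_filter.mp hc).2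
  have h5 : Fintype.card A * (3 * T.index - 4) ≤
      ∑ c ∈ v, (3 * Cfsg.charDegree (c.1 : G → ℂ) - 4) := by
    refine le_trans (le_of_eq ?_) (Finset.sum_le_sum_of_subset hdis)
    rw [Finset.sum_image fun a _ b _ h => hFinj h,
      Finset.sum_congr rfl fun μ _ => (show 3 * Cfsg.charDegree ((F μ).1 : G → ℂ) - 4 = _ by
        rw [show Cfsg.charDegree ((F μ).1 : G → ℂ) = T.index from hdeg μ]),
      Finset.sum_const, smul_eq_mul, Finset.card_univ]
  have hd1 : 2 ≤ T.index :=
    Nat.le_of_dvd (Nat.pos_of_ne_zero Subgroup.index_ne_zero_of_finite) hd2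
  have h6 : T.index * Fintype.card A ≤ Fintype.card A * (3 * T.index - 4) := by
    rw [mul_comm]; exact Nat.mul_le_mul_left _ (by omega)
  have h7 : ∑ c ∈ v, (3 * Cfsg.charDegree (c.1 : G → ℂ) - 4) + 4 * v.card =
      3 * ∑ c ∈ v, Cfsg.charDegree (c.1 : G → ℂ) := by
    rw [Finset.mul_sum, mul_comm 4, ← smul_eq_mul, ← Finset.sum_const, ← Finset.sum_add_distrib]
    exact Finset.sum_congr rfl fun c hc => by have := hw c hc; omega
  rw [hcardC, hsumC]
  omega

end Cfsg.Agent.RealChar
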