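import Cfsg.Prelude.Def_Blocks
import Cfsg.Agent.RealChar.OddFixed
import Cfsg.Agent.Char.DefectZero
import Cfsg.Agent.CharInd.Clifford

/-!
# Real characters over a character of defect zero, arbitrary index
-/

set_option autoImplicit false
set_option linter.style.haveILetI false

open scoped ComplexConjugate
open Cfsg Cfsg.Agent.Char

namespace Cfsg.Agent.RealChar

universe u

variable {G : Type u} [Group G]

theorem exists_real_over_defect_zero [Finite G] (N : Subgroup G) [hN : N.Normal] [Fintype N]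
    (φ : IrrCharacter N)
    (hdef : 2 ^ (Nat.card N).factorization 2 ∣ Cfsg.charDegree (φ : N → ℂ))
    (hconj : ∃ g : G, ∀ n n' : N, (n' : G) = g * (n : G) * g⁻¹ →
      (φ : N → ℂ) n' = conj ((φ : N → ℂ) n)) :
    ∃ χ : IrrCharacter G, fsNu (χ : G → ℂ) = 1 ∧ (∀ g, conj ((χ : G → ℂ) g) = (χ : G → ℂ) g) ∧
      classInner (fun n : N => (χ : G → ℂ) n) (φ : N → ℂ) ≠ 0 := by
  classical
  letI := Fintype.ofFinite G
  haveI : Fact (Nat.Prime 2) := ⟨Nat.prime_two⟩
  obtain ⟨g₀, hg₀⟩ := hconj
  obtain ⟨R⟩ : Nonempty (Sylow 2 G) := inferInstance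
  letI := Fintype.ofFinite (R : Subgroup G)
  set v := (Nat.card N).factorization 2 with hv
  obtain ⟨d, -, hd, hdN⟩ := irr_degree_dvd_card φ.2
  have hdeg : 2 ^ v ∣ d := by
    have : Cfsg.charDegree (φ : N → ℂ) = d := by
      rw [Cfsg.charDegree, hd]; simp
    rwa [this] at hdef
  have hNv : ¬ 2 ^ (v + 1) ∣ Nat.card N :=
    Nat.pow_succ_factorization_not_dvd Nat.card_pos.ne' Nat.prime_two
  have hconjR : ∀ (n : N) (r : G), r ∈ (R : Subgroup G) → r ≠ 1 → IsConj r (n : G) →
      (φ : N → ℂ) n = 0 := by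
    intro n r hr hr1 hc
    obtain ⟨c, hc⟩ := isConj_iff.mp hc
    refine irr_defect_zero_vanish' φ.2 Nat.prime_two hNv hd hdeg n ?_
    obtain ⟨k, hk⟩ := IsPGroup.iff_orderOf.mp R.isPGroup' ⟨_, hr⟩
    rw [Subgroup.orderOf_mk] at hk
    have ho : orderOf n = orderOf r := by
      rw [← Subgroup.orderOf_coe, ← hc]; exact (MulAut.conj c).orderOf_eq r
    rw [ho, hk]
    rcases Nat.eq_zero_or_pos k with rfl | hk0
    · exact absurd (orderOf_eq_one_iff.mp (by simpa using hk)) hr1
    · exact dvd_pow_self 2 hk0.ne'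
  -- the multiplicities
  choose e he using fun χ : IrrCharacter G =>
    isCharacter_classInner_nat (CharInd.isCharacter_res N (isCharacter_of_irr χ.2)) φ
  choose a ha using fun χ : IrrCharacter G =>
    isCharacter_classInner_nat
      (CharInd.isCharacter_res (R : Subgroup G) (isCharacter_of_irr χ.2))
      ⟨fun _ => (1 : ℂ), isIrrCharacter_const_one⟩
  -- the parity
  have hsum : ∀ r : (R : Subgroup G), ∑ χ : IrrCharacter G, (e χ : ℂ) * (χ : G → ℂ) r =
      if r = 1 then (Nat.card G : ℂ) / Nat.card N * d else 0 := by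
    intro r
    have h1 : ∀ χ : IrrCharacter G, (e χ : ℂ) * (χ : G → ℂ) r = (Nat.card N : ℂ)⁻¹ *
        ∑ n : N, (φ : N → ℂ) n * ((χ : G → ℂ) r * conj ((χ : G → ℂ) n)) := by
      intro χ
      rw [← Complex.conj_natCast (e χ), ← he χ, classInner, map_mul, map_inv₀, Complex.conj_natCast,
        map_sum, mul_assoc, Finset.sum_mul]
      congr 1
      refine Finset.sum_congr rfl fun n _ => ?_
      rw [map_mul, Complex.conj_conj]
      ring
    rw [Finset.sum_congr rfl fun χ _ => h1 χ, ← Finset.mul_sum, Finset.sum_comm]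
    simp only [← Finset.mul_sum, sum_irr_mul_conj]
    by_cases hr : r = 1
    · subst hr
      rw [if_pos rfl, Finset.sum_eq_single (1 : N)]
      · rw [if_pos (by simp), hd]
        have hC : Subgroup.centralizer ({(((1 : (R : Subgroup G))) : G)} : Set G) = ⊤ :=
          eq_top_iff.mpr fun x _ => Subgroup.mem_centralizer_iff.mpr fun y hy => by
            rw [Set.mem_singleton_iff] at hy
            simp [hy]
        rw [hC, Subgroup.card_top]
        ring
      · intro n _ hn
        rw [if_neg, mul_zero]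
        intro hc
        apply hn
        rw [Subgroup.coe_one, isConj_one_right] at hc
        exact Subtype.ext hc
      · simp
    · rw [if_neg hr, Finset.sum_eq_zero, mul_zero]
      intro n _
      split_ifs with hc
      · rw [hconjR n r r.2 (fun h => hr (Subtype.ext h)) hc, zero_mul]
      · rw [mul_zero]
  have hm : ∃ m : ℕ, ∑ χ : IrrCharacter G, e χ * a χ = m ∧ Odd m := by
    obtain ⟨l, hl⟩ := hdeg
    have hlodd : Odd l := by
      rw [← Nat.not_even_iff_odd, even_iff_two_dvd]
      intro h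
      exact hNv ((pow_succ 2 v ▸ hl.symm ▸ Nat.mul_dvd_mul_left _ h).trans hdN)
    set u := (Nat.card G / Nat.card N) with hu
    have hG : Nat.card G = u * Nat.card N :=
      (Nat.div_mul_cancel (Subgroup.card_subgroup_dvd_card N)).symm
    have hu0 : u ≠ 0 := fun h => Nat.card_pos.ne' (hG.trans (by rw [h, zero_mul]))
    set w := ordCompl[2] u with hw
    refine ⟨l * w, ?_, hlodd.mul (Nat.not_even_iff_odd.mp fun h =>
      Nat.not_dvd_ordCompl Nat.prime_two hu0 (even_iff_two_dvd.mp h))⟩
    have hcR : Nat.card (R : Subgroup G) * Nat.card N * w = Nat.card G * 2 ^ v := by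
      rw [R.card_eq_multiplicity, hG, Nat.factorization_mul hu0 Nat.card_pos.ne', Finsupp.add_apply,
        pow_add, ← hv]
      have h1 := Nat.ordProj_mul_ordCompl_eq_self u 2
      rw [← hw] at h1
      calc 2 ^ u.factorization 2 * 2 ^ v * Nat.card N * w
          = 2 ^ u.factorization 2 * w * Nat.card N * 2 ^ v := by ring
        _ = _ := by rw [h1]
    apply Nat.cast_injective (R := ℂ)
    push_cast
    calc ∑ χ : IrrCharacter G, (e χ : ℂ) * a χ
        = (Nat.card (R : Subgroup G) : ℂ)⁻¹ *
            ∑ r : (R : Subgroup G), ∑ χ : IrrCharacter G, (e χ : ℂ) * (χ : G → ℂ) r := by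
          rw [Finset.sum_comm, Finset.mul_sum]
          refine Finset.sum_congr rfl fun χ _ => ?_
          rw [← ha χ, classInner, Finset.mul_sum, Finset.mul_sum, Finset.mul_sum]
          refine Finset.sum_congr rfl fun r _ => ?_
          simp [mul_left_comm]
      _ = (Nat.card (R : Subgroup G) : ℂ)⁻¹ * ((Nat.card G : ℂ) / Nat.card N * d) := by
          simp only [hsum, Finset.sum_ite_eq', Finset.mem_univ, if_true]
      _ = (l : ℂ) * w := by
          have h3 : (Nat.card (R : Subgroup G) : ℂ) * Nat.card N * w =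
              Nat.card G * 2 ^ v := by exact_mod_cast hcR
          have h4 : (Nat.card (R : Subgroup G) : ℂ) ≠ 0 :=
            Nat.cast_ne_zero.mpr Nat.card_pos.ne'
          have h5 : (Nat.card N : ℂ) ≠ 0 := Nat.cast_ne_zero.mpr Nat.card_pos.ne'
          rw [hl]
          push_cast
          field_simp
          linear_combination -(l : ℂ) * h3
  -- complex conjugation
  let bar : IrrCharacter G → IrrCharacter G := fun χ =>
    ⟨fun g => conj ((χ : G → ℂ) g), isIrrCharacter_conjFun χ.2⟩
  have hbarbar : ∀ χ, bar (bar χ) = χ := fun χ =>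
    Subtype.ext (funext fun g => Complex.conj_conj _)
  let cjN : N ≃ N := (MulAut.conjNormal g₀).toEquiv
  have hcjN : ∀ n, (cjN n : G) = g₀ * n * g₀⁻¹ := fun n => MulAut.conjNormal_apply g₀ n
  have hebar : ∀ χ, e (bar χ) = e χ := by
    intro χ
    apply Nat.cast_injective (R := ℂ)
    rw [← he, ← he, classInner, classInner]
    congr 1
    calc ∑ n : N, conj ((χ : G → ℂ) n) * conj ((φ : N → ℂ) n)
        = ∑ n : N, conj ((χ : G → ℂ) (cjN n) * conj ((φ : N → ℂ) (cjN n))) := by
          refine Finset.sum_congr rfl fun n _ => ?_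
          rw [hg₀ n (cjN n) (hcjN n), Complex.conj_conj, map_mul, hcjN, irr_isClassFunction χ.2]
      _ = conj (∑ n : N, (χ : G → ℂ) n * conj ((φ : N → ℂ) n)) := by
          rw [map_sum]
          exact Fintype.sum_equiv cjN _ _ fun n => rfl
      _ = _ := by
          have h1 := he χ
          rw [classInner, inv_mul_eq_iff_eq_mul₀ (Nat.cast_ne_zero.mpr Nat.card_pos.ne')] at h1
          rw [h1, map_mul, Complex.conj_natCast, Complex.conj_natCast]
  have habar : ∀ χ, a (bar χ) = a χ := by
    intro χ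
    apply Nat.cast_injective (R := ℂ)
    rw [← ha, ← Complex.conj_natCast (a χ), ← ha χ, classInner, classInner, map_mul, map_inv₀,
      Complex.conj_natCast, map_sum]
    congr 1
    refine Finset.sum_congr rfl fun r _ => ?_
    simp [bar]
  obtain ⟨m, hm, hmodd⟩ := hm
  have hex : ∃ χ, bar χ = χ ∧ Odd (e χ * a χ) := by
    by_contra! hcon
    apply Nat.not_even_iff_odd.mpr hmodd
    rw [← hm, ← ZMod.natCast_eq_zero_iff_even, Nat.cast_sum]
    refine Finset.sum_involution (fun χ _ => bar χ) (fun χ _ => ?_) (fun χ _ hne => ?_)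
      (fun χ _ => Finset.mem_univ _) (fun χ _ => hbarbar χ)
    · rw [hebar, habar]
      exact CharTwo.add_self_eq_zero _
    · intro hfix
      apply hne
      rw [ZMod.natCast_eq_zero_iff_even, ← Nat.not_odd_iff_even]
      exact hcon χ hfix
  obtain ⟨χ, hfix, hodd⟩ := hex
  obtain ⟨heodd, haodd⟩ := Nat.odd_mul.mp hodd
  have hreal := fun g => congrFun (congrArg Subtype.val hfix) g
  refine ⟨χ, odd_fixed_fsNu_eq_one (R : Subgroup G) χ.2 hreal (ha χ) haodd, hreal, ?_⟩
  rw [he χ]
  exact_mod_cast heodd.pos.ne'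

end Cfsg.Agent.RealChar
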